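/-
Local generators of modules and the stalks of the maps they induce.
-/
import Groth.Agent.TFModify.Basic
import Groth.Agent.RefStalk.RankOne
import Groth.Agent.RefStalk.Span
import Groth.Agent.KFlat.PullTensor
import Groth.Agent.TMul.RelAmple
import Groth.Agent.CurveRR.Multi2

set_option autoImplicit false
set_option linter.style.haveILetI false
set_option linter.unusedSectionVars false
set_option backward.isDefEq.respectTransparency false
set_option backward.isDefEq.respectTransparency.types false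

universe u

open CategoryTheory CategoryTheory.Limits AlgebraicGeometry TopologicalSpace Opposite
open Groth.Agent.WeakAssLib (mgerm mgerm_res mgerm_smul stalkHom stalkHom_germ stalkHom_smul)
open Groth.Agent.QC (res resO res_res res_self res_smul resO_resO app_res)
open TMul (homOf val_homOf tm IsGen)

noncomputable section

namespace Groth.Agent.NodalDeg

variable {X : Scheme.{u}}

theorem mgerm_eq {F : X.Modules} {U V : X.Opens} {x : X} (hU : x ∈ U) (hV : x ∈ V) (s : Γ(F, U)) (t : Γ(F, V))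
    (h : mgerm F hU s = mgerm F hV t) :
    ∃ (W : X.Opens) (h₁ : W ≤ U) (h₂ : W ≤ V), x ∈ W ∧ res F h₁ s = res F h₂ t := by
  obtain ⟨W, hxW, i₁, i₂, e⟩ := TopCat.Presheaf.germ_eq F.presheaf x hU hV s t h
  exact ⟨W, i₁.le, i₂.le, hxW, e⟩

theorem stalkHom_comp {F G H : X.Modules} (f : F ⟶ G) (g : G ⟶ H) (x : X) (v : F.presheaf.stalk x) :
    stalkHom (f ≫ g) x v = stalkHom g x (stalkHom f x v) := by
  obtain ⟨W, hxW, a, rfl⟩ := F.presheaf.exists_germ_eq (x := x) v
  rw [stalkHom_germ, stalkHom_germ, stalkHom_germ]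
  rfl

/-- A map bijective on the sections over small opens is bijective on stalks. -/
theorem bijective_stalk_of_app {F G : X.Modules} (f : F ⟶ G) {U : X.Opens}
    (h : ∀ V : X.Opens, V ≤ U → Function.Bijective (f.app V)) {x : X} (hx : x ∈ U) :
    Function.Bijective (stalkHom f x) := by
  refine ⟨(injective_iff_map_eq_zero _).2 fun v hv => ?_, fun w => ?_⟩
  · obtain ⟨W, hxW, a, rfl⟩ := F.presheaf.exists_germ_eq (x := x) v
    rw [stalkHom_germ] at hv
    obtain ⟨V, h₁, h₂, hxV, e⟩ := mgerm_eq hxW hxW _ (0 : Γ(G, W)) (hv.trans (map_zero _).symm)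
    have hxVU : x ∈ V ⊓ U := ⟨hxV, hx⟩
    have e' : f.app (V ⊓ U) (res F (inf_le_left.trans h₁) a) = 0 := by
      rw [← app_res, ← res_res G inf_le_left h₁, e, map_zero, map_zero]
    have ha : res F (inf_le_left.trans h₁ : V ⊓ U ≤ W) a = 0 :=
      (h _ inf_le_right).1 (e'.trans (map_zero _).symm)
    exact (mgerm_res F (inf_le_left.trans h₁) hxVU a).symm.trans (by rw [ha, map_zero])
  · obtain ⟨W, hxW, b, rfl⟩ := G.presheaf.exists_germ_eq (x := x) w
    obtain ⟨a, ha⟩ := (h (W ⊓ U) inf_le_right).2 (res G inf_le_left b)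
    refine ⟨mgerm F (show x ∈ W ⊓ U from ⟨hxW, hx⟩) a, ?_⟩
    rw [stalkHom_germ, ha, mgerm_res]

/-- A generator gives a basis of the stalks. -/
theorem bijective_smul_gen {F : X.Modules} {U : X.Opens} {e : Γ(F, U)} (he : IsGen e) {x : X} (hx : x ∈ U) :
    Function.Bijective fun a : X.presheaf.stalk x => a • mgerm F hx e := by
  refine ⟨fun a b hab => ?_, fun w => ?_⟩
  · obtain ⟨W, hxW, c, rfl⟩ := TopCat.Presheaf.exists_germ_eq X.presheaf a
    obtain ⟨W', hxW', d, rfl⟩ := TopCat.Presheaf.exists_germ_eq X.presheaf b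
    let P : X.Opens := W ⊓ W' ⊓ U
    have hxP : x ∈ P := ⟨⟨hxW, hxW'⟩, hx⟩
    have h1 : mgerm F hxP (resO X (inf_le_left.trans inf_le_left : P ≤ W) c • res F inf_le_right e) =
        mgerm F hxP (resO X (inf_le_left.trans inf_le_right : P ≤ W') d • res F inf_le_right e) := by
      rw [mgerm_smul, mgerm_smul, mgerm_res]
      refine (congrArg (· • mgerm F hx e) (X.presheaf.germ_res_apply _ _ _ _)).trans (hab.trans ?_)
      exact (congrArg (· • mgerm F hx e) (X.presheaf.germ_res_apply _ _ _ _)).symm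
    obtain ⟨V, h₁, h₂, hxV, e'⟩ := mgerm_eq hxP hxP _ _ h1
    rw [res_smul, res_smul, res_res, resO_resO, resO_resO] at e'
    have := (he V (h₁.trans inf_le_right)).1 e'
    refine (X.presheaf.germ_res_apply (homOfLE (h₁.trans (inf_le_left.trans inf_le_left))) x hxV c).symm.trans ?_
    refine Eq.trans (congrArg (X.presheaf.germ V x hxV) this) ?_
    exact X.presheaf.germ_res_apply (homOfLE (h₁.trans (inf_le_left.trans inf_le_right))) x hxV d
  · obtain ⟨W, hxW, b, rfl⟩ := F.presheaf.exists_germ_eq (x := x) w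
    obtain ⟨c, hc⟩ := (he (W ⊓ U) inf_le_right).2 (res F inf_le_left b)
    refine ⟨X.presheaf.germ (W ⊓ U) x ⟨hxW, hx⟩ c, ?_⟩
    refine Eq.trans ?_ (mgerm_res F (inf_le_left : W ⊓ U ≤ W) (show x ∈ W ⊓ U from ⟨hxW, hx⟩) b)
    rw [← hc, mgerm_smul, mgerm_res]

/-- The stalk at a point with a generator. -/
def genEquiv {F : X.Modules} {U : X.Opens} {e : Γ(F, U)} (he : IsGen e) {x : X} (hx : x ∈ U) :
    X.presheaf.stalk x ≃ₗ[X.presheaf.stalk x] F.presheaf.stalk x :=
  LinearEquiv.ofBijective (LinearMap.toSpanSingleton _ _ (mgerm F hx e)) (bijective_smul_gen he hx)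

theorem bijective_stalk_section {F : X.Modules} (σ : Coh.structureModule X ⟶ F) {x : X}
    (hx : x ∈ CohB1.genLocus F σ) : Function.Bijective (stalkHom σ x) := by
  obtain ⟨U, hxU, hU⟩ := (TMul.mem_genLocus_iff σ).1 hx
  refine bijective_stalk_of_app σ (fun V hV => ?_) hxU
  have : (fun c : Γ(X, V) => σ.app V c) = fun c : Γ(X, V) => c • res F hV (TMul.val σ U) := by
    funext c; rw [TMul.app_eq_smul, TMul.res_val]
  show Function.Bijective fun c : Γ(X, V) => σ.app V c
  rw [this]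
  exact hU V hV

theorem bijective_stalk_mulHom {L : X.Modules} (σ : Coh.structureModule X ⟶ L) (M : X.Modules) {x : X}
    (hx : x ∈ CohB1.genLocus L σ) : Function.Bijective (stalkHom (TFModify.mulHom σ M) x) := by
  obtain ⟨U, hxU, hU⟩ := (TMul.mem_genLocus_iff σ).1 hx
  refine bijective_stalk_of_app _ (fun V hV => ?_) hxU
  have : (fun m : Γ(M, V) => (TFModify.mulHom σ M).app V m) = fun m : Γ(M, V) => tm m (res L hV (TMul.val σ U)) := by
    funext m; rw [TFModify.mulHom_app, TMul.res_val]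
  show Function.Bijective fun m : Γ(M, V) => (TFModify.mulHom σ M).app V m
  rw [this]
  exact TMul.tm_bijective hU V hV

/-- An isomorphism with the structure module near a point gives a generator. -/
theorem exists_gen_of_iso {L : X.Modules} {x : X}
    (h : ∃ U : X.Opens, x ∈ U ∧ Nonempty (L.restrict U.ι ≅ Coh.structureModule (↑U : Scheme.{u}))) :
    ∃ (U : X.Opens) (e : Γ(L, U)), x ∈ U ∧ IsGen e := by
  obtain ⟨U, hx, ⟨φ⟩⟩ := h
  let e : Γ(L, U.ι ''ᵁ ⊤) := φ.inv.app ⊤ (1 : Γ(U, ⊤))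
  refine ⟨U.ι ''ᵁ ⊤, e, ⟨⟨x, hx⟩, trivial, rfl⟩, fun V hV => ?_⟩
  have key : ∀ W : (U : Scheme.{u}).Opens,
      Function.Bijective fun c : Γ(X, U.ι ''ᵁ W) => c • res L (U.ι.image_mono le_top) e := fun W => by
    have hb : Function.Bijective (φ.inv.app W) := ConcreteCategory.bijective_of_isIso (φ.inv.app W)
    have hfun : (fun c : Γ(U, W) => φ.inv.app W c) = fun c : Γ(U, W) =>
        ((U.ι.appIso W).inv.hom c • res L (U.ι.image_mono le_top) e : Γ(L, U.ι ''ᵁ W)) := by
      funext c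
      refine (TMul.app_eq_smul φ.inv c).trans ?_
      exact congrArg (fun w : Γ(L.restrict U.ι, W) => c • w)
        (TMul.res_val φ.inv (le_top : W ≤ ⊤)).symm
    replace hb : Function.Bijective fun c : Γ(U, W) => φ.inv.app W c := hb
    rw [hfun] at hb
    exact (Function.Bijective.of_comp_iff _
      (ConcreteCategory.bijective_of_isIso (U.ι.appIso W).inv)).mp hb
  obtain ⟨W, rfl⟩ : ∃ W, U.ι ''ᵁ W = V := ⟨U.ι ⁻¹ᵁ V, by
    rw [Scheme.Hom.image_preimage_eq_opensRange_inf, inf_eq_right.mpr]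
    exact hV.trans (U.ι.image_le_opensRange _)⟩
  exact key W

theorem exists_gen_tensor {L M : X.Modules} {x : X} (hL : ∃ (U : X.Opens) (e : Γ(L, U)), x ∈ U ∧ IsGen e)
    (hM : ∃ (U : X.Opens) (e : Γ(M, U)), x ∈ U ∧ IsGen e) :
    ∃ (U : X.Opens) (e : Γ(CohB1.tensorMod L M, U)), x ∈ U ∧ IsGen e := by
  obtain ⟨U, e, hxU, he⟩ := hL
  obtain ⟨U', e', hxU', he'⟩ := hM
  exact ⟨U ⊓ U', tm (res L inf_le_left e) (res M inf_le_right e'), ⟨hxU, hxU'⟩,
    TMul.isGen_tm (he.res _) (he'.res _)⟩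

/-- A section outside the maximal multiple generates where the module has a generator. -/
theorem mem_genLocus_of_notMem {G : X.Modules} {t : Γ(G, ⊤)} {x : X}
    (hG : ∃ (U : X.Opens) (e : Γ(G, U)), x ∈ U ∧ IsGen e)
    (h : mgerm G (Opens.mem_top x) t ∉
      IsLocalRing.maximalIdeal (X.presheaf.stalk x) • (⊤ : Submodule (X.presheaf.stalk x) (G.presheaf.stalk x))) :
    x ∈ CohB1.genLocus G (homOf t) := by
  obtain ⟨U, e, hxU, he⟩ := hG
  obtain ⟨c, hc⟩ := (he U le_rfl).2 (res G le_top t)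
  change c • res G le_rfl e = _ at hc
  rw [res_self] at hc
  refine (TMul.mem_genLocus_iff_isUnit (homOf t) he (c := c) (by rw [val_homOf]; exact hc.symm) hxU).mpr ?_
  by_contra hu
  refine h ?_
  rw [← mgerm_res G (le_top : U ≤ ⊤) hxU t, ← hc, mgerm_smul]
  exact Submodule.smul_mem_smul ((IsLocalRing.mem_maximalIdeal _).2 hu) trivial

/-- The maximal multiple is proper. -/
theorem smul_top_ne_top {G : X.Modules} [IsLocallyNoetherian X] (hG : Coh.IsCoh G) {x : X}
    (hg : ∃ (U : X.Opens) (e : Γ(G, U)), x ∈ U ∧ IsGen e) :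
    IsLocalRing.maximalIdeal (X.presheaf.stalk x) • (⊤ : Submodule (X.presheaf.stalk x) (G.presheaf.stalk x)) ≠ ⊤ := by
  intro h
  obtain ⟨U, e, hxU, he⟩ := hg
  haveI := RegDual.finite_stalk hG x
  have hbot := Submodule.eq_bot_of_le_smul_of_le_jacobson_bot (IsLocalRing.maximalIdeal (X.presheaf.stalk x))
    (⊤ : Submodule (X.presheaf.stalk x) (G.presheaf.stalk x)) Module.Finite.fg_top h.ge
    (IsLocalRing.maximalIdeal_le_jacobson ⊥)
  have h0 : ∀ v : G.presheaf.stalk x, v = 0 := fun v => by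
    simpa [hbot] using (Submodule.mem_top (R := X.presheaf.stalk x) (x := v))
  have := (bijective_smul_gen he hxU).1 (a₁ := 1) (a₂ := 0) ((h0 _).trans (h0 _).symm)
  exact one_ne_zero this

/-- A generic point of a component. -/
def Gp (X : Scheme.{u}) : Set X := {η | closure ({η} : Set X) ∈ irreducibleComponents (X : Type u)}

theorem Gp.eq_of_specializes {η : X} (hη : η ∈ Gp X) {y : X} (h : y ⤳ η) : y = η := by
  have h1 : closure ({η} : Set X) ⊆ closure {y} :=
    closure_minimal (Set.singleton_subset_iff.mpr h.mem_closure) isClosed_closure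
  have h2 : closure ({y} : Set X) ⊆ closure {η} := hη.2 isIrreducible_singleton.closure h1
  exact ((specializes_iff_closure_subset.2 h2).antisymm h).eq.symm

theorem Gp.finite [IsNoetherian X] : (Gp X).Finite :=
  Set.Finite.of_finite_image (f := fun η : (X : Type u) => closure ({η} : Set X))
    ((NoetherianSpace.finite_irreducibleComponents (α := X)).subset (by rintro _ ⟨η, hη, rfl⟩; exact hη))
    fun a _ b _ hab => ((specializes_iff_closure_subset.2 hab.ge).antisymm
      (specializes_iff_closure_subset.2 hab.le)).eq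

theorem Gp.exists_specializes (y : X) : ∃ η ∈ Gp X, η ⤳ y := by
  let Z := irreducibleComponent y
  have hZ : IsIrreducible Z := isIrreducible_irreducibleComponent
  have hgen := hZ.isGenericPoint_genericPoint isClosed_irreducibleComponent
  refine ⟨hZ.genericPoint, ?_, hgen.specializes mem_irreducibleComponent⟩
  show closure ({hZ.genericPoint} : Set X) ∈ irreducibleComponents (X : Type u)
  rw [hgen.def]
  exact irreducibleComponent_mem_irreducibleComponents y

theorem eq_zero_of_generic [IsReduced X] {W : X.Opens} (a : Γ(X, W))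
    (h : ∀ η ∈ Gp X, ∀ hη : η ∈ W, X.presheaf.germ W η hη a = 0) : a = 0 := by
  refine eq_zero_of_basicOpen_eq_bot a (eq_bot_iff.2 fun y hy => ?_)
  obtain ⟨η, hη, hηy⟩ := Gp.exists_specializes y
  have hηb : η ∈ X.basicOpen a := hηy.mem_open (X.basicOpen a).2 hy
  have hηW : η ∈ W := X.basicOpen_le a hηb
  have := (X.mem_basicOpen a η hηW).1 hηb
  rw [h η hη hηW] at this
  exact (not_isUnit_zero this).elim

/-- A coherent module of rank one at a generic point of a reduced scheme has a generator nearby. -/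
theorem exists_gen_nhd [IsNoetherian X] [IsReduced X] {F : X.Modules} (hF : Coh.IsCoh F) {η : X} (hη : η ∈ Gp X)
    (hr : Module.finrank (X.presheaf.stalk η) (F.presheaf.stalk η) = 1) :
    ∃ (U : X.Opens) (e : Γ(F, U)), η ∈ U ∧ IsGen e := by
  classical
  haveI := RatFunLib.isArtinianRing_stalk fun y h => Gp.eq_of_specializes hη h
  letI : Field (X.presheaf.stalk η) := (IsArtinianRing.isField_of_isReduced_of_isLocalRing (R := X.presheaf.stalk η)).toField
  haveI := RegDual.finite_stalk hF η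
  obtain ⟨v, hv0, hv⟩ := finrank_eq_one_iff'.1 hr
  obtain ⟨W₀, hηW₀, s, rfl⟩ := F.presheaf.exists_germ_eq (x := η) v
  obtain ⟨W₁, ι, hι, b, hηW₁, hspan⟩ := RefStalk.exists_spanning_nhd hF.2 η
  have hnear : ∀ i, ∃ O : X.Opens, η ∈ O ∧ ∀ (y : X) (_ : y ∈ O) (hy₀ : y ∈ W₀) (hy₁ : y ∈ W₁),
      ∃ a : X.presheaf.stalk y, mgerm F hy₁ (b i) = a • mgerm F hy₀ s := fun i => by
    obtain ⟨a, ha⟩ := hv (mgerm F hηW₁ (b i))
    obtain ⟨Q, hηQ, c, rfl⟩ := TopCat.Presheaf.exists_germ_eq X.presheaf a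
    let P : X.Opens := W₀ ⊓ W₁ ⊓ Q
    have hηP : η ∈ P := ⟨⟨hηW₀, hηW₁⟩, hηQ⟩
    have h1 : mgerm F hηP (res F (inf_le_left.trans inf_le_right : P ≤ W₁) (b i)) =
        mgerm F hηP (resO X (inf_le_right : P ≤ Q) c • res F (inf_le_left.trans inf_le_left : P ≤ W₀) s) := by
      rw [mgerm_smul, mgerm_res, mgerm_res]
      refine ha.symm.trans ?_
      exact (congrArg (· • mgerm F hηW₀ s) (X.presheaf.germ_res_apply _ _ _ _)).symm
    obtain ⟨O, h₁, h₂, hηO, e⟩ := mgerm_eq hηP hηP _ _ h1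
    refine ⟨O, hηO, fun y hy hy₀ hy₁ => ⟨X.presheaf.germ Q y (h₁ hy).2 c, ?_⟩⟩
    have e' := congrArg (mgerm F hy) e
    rw [mgerm_res, mgerm_res, mgerm_res, mgerm_smul, mgerm_res] at e'
    exact e'.trans (congrArg (· • mgerm F hy₀ s) (X.presheaf.germ_res_apply _ _ _ _))
  choose O hηO hO using hnear
  let T : Set X := ⋃ η' ∈ Gp X \ {η}, closure {η'}
  have hT : IsClosed T := (Gp.finite.subset Set.diff_subset).isClosed_biUnion fun _ _ => isClosed_closure
  have hηT : η ∉ T := fun h => by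
    obtain ⟨η', hη', h'⟩ := Set.mem_iUnion₂.1 h
    exact hη'.2 (Gp.eq_of_specializes hη (specializes_iff_mem_closure.2 h'))
  let W : X.Opens := W₀ ⊓ W₁ ⊓ ⟨Tᶜ, hT.isOpen_compl⟩ ⊓ ⟨⋂ i, (O i : Set X), isOpen_iInter_of_finite fun i => (O i).2⟩
  have hηW : η ∈ W := ⟨⟨⟨hηW₀, hηW₁⟩, hηT⟩, Set.mem_iInter.2 hηO⟩
  have hW₀ : W ≤ W₀ := inf_le_left.trans (inf_le_left.trans inf_le_left)
  refine ⟨W, res F hW₀ s, hηW, RefStalk.isGen_of_stalk fun y hy => ⟨?_, ?_⟩⟩
  · rw [mgerm_res]
    refine (injective_iff_map_eq_zero (LinearMap.toSpanSingleton (X.presheaf.stalk y) _ (mgerm F (hW₀ hy) s))).2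
      fun a ha => ?_
    obtain ⟨Q, hyQ, c, rfl⟩ := TopCat.Presheaf.exists_germ_eq X.presheaf a
    let P : X.Opens := W ⊓ Q
    have hyP : y ∈ P := ⟨hy, hyQ⟩
    have h1 : mgerm F hyP (resO X (inf_le_right : P ≤ Q) c • res F (inf_le_left.trans hW₀) s) = 0 := by
      rw [mgerm_smul, mgerm_res]
      exact (congrArg (· • mgerm F (hW₀ hy) s) (X.presheaf.germ_res_apply _ _ _ _)).trans ha
    obtain ⟨V, h₁, h₂, hyV, e⟩ := mgerm_eq hyP hyP _ (0 : Γ(F, P)) (h1.trans (map_zero _).symm)
    rw [res_smul, map_zero, res_res, resO_resO] at e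
    have hc : resO X (h₁.trans inf_le_right) c = 0 := eq_zero_of_generic _ fun η' hη' hη'V => by
      have hη'W : η' ∈ W := (h₁ hη'V).1
      have : η' = η := by
        by_contra hne
        exact hη'W.1.2 (Set.mem_iUnion₂.2 ⟨η', ⟨hη', hne⟩, subset_closure rfl⟩)
      subst this
      have e' := congrArg (mgerm F hη'V) e
      rw [mgerm_smul, mgerm_res, map_zero] at e'
      exact (smul_eq_zero.1 e').resolve_right hv0
    rw [← X.presheaf.germ_res_apply (homOfLE (h₁.trans inf_le_right)) y hyV c]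
    exact (congrArg (X.presheaf.germ V y hyV) hc).trans (map_zero _)
  · rw [mgerm_res]
    show Function.Surjective (LinearMap.toSpanSingleton (X.presheaf.stalk y) _ (mgerm F (hW₀ hy) s))
    rw [← LinearMap.range_eq_top, eq_top_iff, ← hspan y hy.1.1.2, Submodule.span_le]
    rintro _ ⟨i, rfl⟩
    obtain ⟨a, ha⟩ := hO i y (Set.mem_iInter.1 hy.2 i) (hW₀ hy) hy.1.1.2
    exact ⟨a, ha.symm⟩

end Groth.Agent.NodalDeg

end
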