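/-
Degree of the tensor product of rank-one modules, at each point one of them invertible, on a reduced curve.
-/
import Groth.Agent.NodalDeg.Local
import Groth.Agent.NodalRed.Basic
import Groth.Agent.AmpleDimOne.Top
import Groth.Agent.Unibranch.ComponentTransfer
import Groth.Agent.S1551

set_option autoImplicit false
set_option linter.style.haveILetI false
set_option linter.unusedSectionVars false
set_option backward.isDefEq.respectTransparency false
set_option backward.isDefEq.respectTransparency.types false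

universe u

open CategoryTheory CategoryTheory.Limits AlgebraicGeometry TopologicalSpace Opposite
open Groth.Agent.CurveRR
open Groth.Agent.CurveRR.Multi (lenAt length_stalkUnit compSum D D_eq_compSum)
open Groth.Agent.WeakAssLib (mgerm mgerm_res mgerm_smul stalkHom stalkHom_germ stalkHom_smul)
open Groth.Agent.QC (res resO res_res res_self res_smul app_res)
open TMul (homOf val_homOf tm IsGen)

noncomputable section

namespace Groth.Agent.NodalDeg

variable {k : Type u} [Field k] {X : Scheme.{u}} [X.Over (Spec (CommRingCat.of k))]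
  [IsProper (X ↘ Spec (CommRingCat.of k))]

theorem injective_stalkHom {F G : X.Modules} (f : F ⟶ G) [Mono f] (x : X) : Function.Injective (stalkHom f x) :=
  (ModuleCat.mono_iff_injective ((DerSch.stalkFunctor X x).map f)).1 inferInstance

theorem surjective_stalkHom {F G : X.Modules} (f : F ⟶ G) [Epi f] (x : X) : Function.Surjective (stalkHom f x) :=
  (ModuleCat.epi_iff_surjective ((DerSch.stalkFunctor X x).map f)).1 inferInstance

/-- The stalk of a cokernel vanishes where the map is onto. -/
theorem subsingleton_coker {F G : X.Modules} (f : F ⟶ G) {x : X} (h : Function.Surjective (stalkHom f x)) :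
    Subsingleton ((cokernel f).presheaf.stalk x) := by
  refine subsingleton_of_forall_eq 0 fun v => ?_
  obtain ⟨w, rfl⟩ := surjective_stalkHom (cokernel.π f) x v
  obtain ⟨y, rfl⟩ := h w
  obtain ⟨W, hxW, a, rfl⟩ := F.presheaf.exists_germ_eq (x := x) y
  rw [stalkHom_germ, stalkHom_germ]
  refine (congrArg (mgerm _ hxW) ?_).trans (map_zero _)
  exact congrArg (fun φ => (φ.app W) a) (cokernel.condition f)

theorem lenAt_of_gen [IsNoetherian X] {F : X.Modules} {η : X}
    (h : ∃ (U : X.Opens) (e : Γ(F, U)), η ∈ U ∧ IsGen e) : lenAt F η = lenAt (Coh.structureModule X) η := by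
  obtain ⟨U, e, hη, he⟩ := h
  rw [lenAt, lenAt, length_stalkUnit η, ← (genEquiv he hη).length_eq]

include k in
/-- Degree is additive on tensoring a rank-one module with an invertible one. -/
theorem euler_tensor_inv (hdim : topologicalKrullDim X ≤ 1) {F E : X.Modules} (hF : Coh.IsCoh F)
    (hgen : ∀ η ∈ Gp X, ∃ (U : X.Opens) (e : Γ(F, U)), η ∈ U ∧ IsGen e) (hE : PicF.IsInvertible E) :
    Curv2.euler k X (CohB1.tensorMod F E) =
      Curv2.euler k X F + Curv2.euler k X E - Curv2.euler k X (Coh.structureModule X) := by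
  haveI := isNoetherian_of_proper k X
  haveI : Fintype (irreducibleComponents (X : Type u)) :=
    (NoetherianSpace.finite_irreducibleComponents (α := X)).fintype
  have h1 := D_eq_compSum k 1 E hdim (isFinLocFreeOfRank_one hE) F hF
  have h2 := D_eq_compSum k 1 E hdim (isFinLocFreeOfRank_one hE) _ RefStalk.isCoh_structureModule
  have h3 : compSum k 1 E F = compSum k 1 E (Coh.structureModule X) := by
    refine Finset.sum_congr rfl fun Z _ => ?_
    rw [lenAt_of_gen (hgen _ (by
      show closure ({Z.2.1.genericPoint} : Set X) ∈ irreducibleComponents (X : Type u)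
      rw [(Z.2.1.isGenericPoint_genericPoint (isClosed_of_mem_irreducibleComponents _ Z.2)).def]
      exact Z.2))]
  rw [h3, ← h2, D, D, euler_eq_of_iso (TMul.leftUnitIso E)] at h1
  push_cast at h1
  linarith

include k in
/-- A global section generating at given finitely many points. -/
theorem exists_section_gen [IsAlgClosed k] {G : X.Modules} (hG : Coh.IsCoh G) (hgg : Curv2.IsGloballyGenerated G)
    {T : Set X} (hT : T.Finite) (hloc : ∀ x ∈ T, ∃ (U : X.Opens) (e : Γ(G, U)), x ∈ U ∧ IsGen e) :
    ∃ σ : Coh.structureModule X ⟶ G, ∀ x ∈ T, x ∈ CohB1.genLocus G σ := by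
  classical
  haveI := isNoetherian_of_proper k X
  letI : Module k Γ(G, ⊤) := secMod k G ⊤
  let mG : (x : X) → Submodule (X.presheaf.stalk x) (G.presheaf.stalk x) := fun x =>
    IsLocalRing.maximalIdeal (X.presheaf.stalk x) • ⊤
  let S : X → Submodule k Γ(G, ⊤) := fun x =>
    { carrier := {t | mgerm G (Opens.mem_top x) t ∈ mG x}
      add_mem' := fun {a b} ha hb => by
        show mgerm G (Opens.mem_top x) (a + b) ∈ mG x
        rw [map_add]; exact Submodule.add_mem _ ha hb
      zero_mem' := by
        show mgerm G (Opens.mem_top x) (0 : Γ(G, ⊤)) ∈ mG x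
        rw [map_zero]; exact Submodule.zero_mem _
      smul_mem' := fun c t ht => by
        show mgerm G (Opens.mem_top x) (cst k X ⊤ c • t) ∈ mG x
        rw [mgerm_smul]; exact Submodule.smul_mem _ _ ht }
  obtain ⟨l, s, hs⟩ := exists_finite_sections hG hgg
  have hep : Epi (DetDeg.fromFree s) := by
    have e : biproduct.desc (f := fun _ : Fin l => Coh.structureModule X) (fun i => homOf (s i)) =
        (biproduct.isoCoproduct fun _ : Fin l => Coh.structureModule X).hom ≫ DetDeg.fromFree s := by
      refine biproduct.hom_ext' _ _ fun i => ?_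
      simp [DetDeg.fromFree, FlatMod.freeMod]
    exact epi_of_epi_fac e.symm
  have hne : ∀ x ∈ T, S x ≠ ⊤ := fun x hx htop => by
    refine smul_top_ne_top hG (hloc x hx) (eq_top_iff.2 fun v _ => ?_)
    obtain ⟨w, rfl⟩ := surjective_stalkHom (DetDeg.fromFree s) x v
    obtain ⟨c, rfl⟩ := (PBundle.isFrame_bv X l x (Opens.mem_top x)).2 w
    rw [DetDeg.fromFree_stalk]
    refine Submodule.sum_mem _ fun i _ => Submodule.smul_mem _ _ ?_
    have : s i ∈ S x := htop ▸ Submodule.mem_top
    exact this
  obtain ⟨t, ht⟩ : ∃ t : Γ(G, ⊤), ∀ x ∈ T, t ∉ S x := by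
    by_contra! hall
    have hcov : ⋃ p ∈ hT.toFinset.image S, (p : Set Γ(G, ⊤)) = Set.univ := by
      refine Set.eq_univ_of_forall fun t => ?_
      obtain ⟨x, hx, htx⟩ := hall t
      exact Set.mem_iUnion₂.2 ⟨S x, Finset.mem_image_of_mem _ (hT.mem_toFinset.2 hx), htx⟩
    obtain ⟨x, hx, hxtop⟩ := Finset.mem_image.1 (Subspace.top_mem_of_biUnion_eq_univ hcov)
    exact hne x (hT.mem_toFinset.1 hx) hxtop
  exact ⟨homOf t, fun x hx => mem_genLocus_of_notMem (hloc x hx) (ht x hx)⟩

include k in
theorem finite_closed_off_Gp (hdim : topologicalKrullDim X ≤ 1) {A : Set X} (hA : IsClosed A)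
    (h : ∀ η ∈ Gp X, η ∉ A) : A.Finite := by
  haveI := isNoetherian_of_proper k X
  have hcl : ∀ z ∈ A, IsClosed ({z} : Set X) := fun z hz => by
    rw [← closure_eq_iff_isClosed]
    refine Set.Subset.antisymm (fun w hw => ?_) subset_closure
    obtain ⟨η, hη, hηz⟩ := Gp.exists_specializes z
    rcases AmpleDimOne.eq_or_eq_of_specializes hdim hηz (specializes_iff_mem_closure.2 hw) with e | e
    · exact (h η hη (e ▸ hz)).elim
    · exact e.symm
  have := CurveDiv.finite_of_forall_isClosed (⊤ : X.Opens) ⟨Aᶜ, hA.isOpen_compl⟩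
    fun z _ hz => hcl z (not_not.1 hz)
  exact this.subset fun z hz => ⟨trivial, fun h => h hz⟩

include k in
/-- Two injections out of the structure module: the cokernels of a section and of its translate agree. -/
theorem euler_tensor_sections (hdim : topologicalKrullDim X ≤ 1) [IsReduced X] {G H : X.Modules}
    (hG : Coh.IsCoh G) (hH : Coh.IsCoh H) (σ : Coh.structureModule X ⟶ G)
    (hσ : ∀ η ∈ Gp X, η ∈ CohB1.genLocus G σ) (τ : Coh.structureModule X ⟶ H)
    (hτ : ∀ x : X, ¬ Subsingleton ((cokernel σ).presheaf.stalk x) → x ∈ CohB1.genLocus H τ) :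
    Curv2.euler k X (CohB1.tensorMod H G) =
      Curv2.euler k X H + Curv2.euler k X G - Curv2.euler k X (Coh.structureModule X) := by
  haveI := isNoetherian_of_proper k X
  haveI : Mono σ := by
    refine (Groth.Agent.QC.mono_iff_app_injective σ).2 fun V => (injective_iff_map_eq_zero (σ.app V).hom).2 fun a ha => ?_
    refine eq_zero_of_generic (show Γ(X, V) from a) fun η hη hηV => ?_
    obtain ⟨U, hηU, hU⟩ := (TMul.mem_genLocus_iff σ).1 (hσ η hη)
    have h1 : σ.app V (show Γ(X, V) from a) = 0 := ha
    rw [TMul.app_eq_smul] at h1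
    have h2 := congrArg (mgerm G hηV) h1
    rw [mgerm_smul, map_zero] at h2
    refine (bijective_smul_gen hU hηU).1 ?_
    show _ • mgerm G hηU _ = (0 : X.presheaf.stalk η) • mgerm G hηU _
    rw [zero_smul, ← h2]
    congr 1
    rw [← mgerm_res G (inf_le_left : U ⊓ V ≤ U) (show η ∈ U ⊓ V from ⟨hηU, hηV⟩),
      ← mgerm_res G (inf_le_right : U ⊓ V ≤ V) (show η ∈ U ⊓ V from ⟨hηU, hηV⟩) (TMul.val σ V),
      TMul.res_val, TMul.res_val]
  let α : H ⟶ CohB1.tensorMod H G := TFModify.mulHom σ H
  let β : G ⟶ CohB1.tensorMod H G := TFModify.mulHom τ G ≫ (TMul.commIso G H).hom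
  have hsq : σ ≫ β = τ ≫ α := by
    refine TMul.hom_ext_val ?_
    show (TMul.commHom G H).app ⊤ ((TFModify.mulHom τ G).app ⊤ (TMul.val σ ⊤)) =
      (TFModify.mulHom σ H).app ⊤ (TMul.val τ ⊤)
    rw [TFModify.mulHom_app, TFModify.mulHom_app, TMul.commHom_tm]
  have hσstalk : ∀ x : X, Subsingleton ((cokernel σ).presheaf.stalk x) →
      Function.Bijective (stalkHom σ x) := fun x hx => by
    refine ⟨injective_stalkHom σ x, fun v => ?_⟩
    have hex := ((ShortComplex.exact_cokernel σ).map (DerSch.stalkFunctor X x))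
    rw [ShortComplex.moduleCat_exact_iff] at hex
    exact hex v (Subsingleton.elim (α := (cokernel σ).presheaf.stalk x) _ _)
  have hCG : Coh.IsCoh (cokernel σ) := Groth.Agent.QC.isCoh_cokernel RefStalk.isCoh_structureModule.1 hG σ
  haveI := hCG.1
  have hW : IsOpen (CohB1.support (cokernel σ))ᶜ := (Groth.Agent.QC.isClosed_support hCG.2).isOpen_compl
  have hσgen : ∀ x : X, Subsingleton ((cokernel σ).presheaf.stalk x) → x ∈ CohB1.genLocus G σ := fun x hx => by
    refine (TMul.mem_genLocus_iff σ).2 ⟨⟨_, hW⟩, fun h => h hx, RefStalk.isGen_of_stalk fun y hy => ?_⟩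
    have hb := hσstalk y (not_not.1 hy)
    let one : (Coh.structureModule X).presheaf.stalk y :=
      mgerm (Coh.structureModule X) hy (1 : Γ(X, ⟨(CohB1.support (cokernel σ))ᶜ, hW⟩))
    have hone : Function.Bijective fun a : X.presheaf.stalk y => a • one := by
      refine bijective_smul_gen (F := Coh.structureModule X) (fun V hV => ?_) hy
      have : (fun c : Γ(X, V) => c • res (Coh.structureModule X) hV
          (1 : Γ(X, ⟨(CohB1.support (cokernel σ))ᶜ, hW⟩))) = fun c => c := by
        funext c
        show c * X.presheaf.map _ 1 = c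
        rw [map_one, mul_one]
      rw [this]
      exact Function.bijective_id
    have : (fun a : X.presheaf.stalk y => a • mgerm G hy (TMul.val σ _)) =
        fun a : X.presheaf.stalk y => stalkHom σ y (a • one) := by
      funext a
      rw [stalkHom_smul, stalkHom_germ]
      rfl
    rw [this]
    exact hb.comp hone
  have hβ : ∀ x : X, x ∈ CohB1.genLocus H τ → Function.Bijective (stalkHom β x) := fun x hx => by
    rw [show (stalkHom β x : _ → _) = stalkHom (TMul.commIso G H).hom x ∘ stalkHom (TFModify.mulHom τ G) x from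
      funext fun v => stalkHom_comp _ _ x v]
    exact Function.Bijective.comp ⟨injective_stalkHom _ x, surjective_stalkHom _ x⟩
      (bijective_stalk_mulHom τ G hx)
  have hsqx : ∀ x v, stalkHom β x (stalkHom σ x v) = stalkHom α x (stalkHom τ x v) := fun x v => by
    rw [← stalkHom_comp, ← stalkHom_comp, hsq]
  have hαinj : ∀ x, Function.Injective (stalkHom α x) := fun x => by
    by_cases hx : Subsingleton ((cokernel σ).presheaf.stalk x)
    · exact (bijective_stalk_mulHom σ H (hσgen x hx)).1
    · intro u w huw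
      obtain ⟨u, rfl⟩ := (bijective_stalk_section τ (hτ x hx)).2 u
      obtain ⟨w, rfl⟩ := (bijective_stalk_section τ (hτ x hx)).2 w
      rw [← hsqx, ← hsqx] at huw
      exact congrArg _ (injective_stalkHom σ x ((hβ x (hτ x hx)).1 huw))
  haveI : Mono α := (Groth.Agent.QC.mono_iff_app_injective α).2 fun V =>
    (injective_iff_map_eq_zero (α.app V).hom).2 fun a ha => Groth.Agent.WeakAssLib.ext_germ (F := H) a fun x hx => by
      refine hαinj x ?_
      rw [stalkHom_germ, show α.app V a = 0 from ha, map_zero, map_zero]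
  have hHG : Coh.IsCoh (CohB1.tensorMod H G) := isCoh_tensor' hH hG
  have hCH : Coh.IsCoh (cokernel α) := Groth.Agent.QC.isCoh_cokernel hH.1 hHG α
  let c : cokernel σ ⟶ cokernel α := cokernel.map σ α τ β hsq
  have hc : cokernel.π σ ≫ c = β ≫ cokernel.π α := cokernel.π_desc _ _ _
  have hex : ∀ {A B : X.Modules} (f : A ⟶ B) (x : X) (v : B.presheaf.stalk x),
      stalkHom (cokernel.π f) x v = 0 → v ∈ Set.range (stalkHom f x) := fun f x v hv => by
    have hex := ((ShortComplex.exact_cokernel f).map (DerSch.stalkFunctor X x))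
    rw [ShortComplex.moduleCat_exact_iff] at hex
    exact hex v hv
  have hci : IsIso c := by
    refine KFlat.isIso_of_stalks c fun x => ?_
    rw [ConcreteCategory.isIso_iff_bijective]
    show Function.Bijective (stalkHom c x)
    by_cases hx : Subsingleton ((cokernel σ).presheaf.stalk x)
    · haveI : Subsingleton ((cokernel α).presheaf.stalk x) :=
        subsingleton_coker α (bijective_stalk_mulHom σ H (hσgen x hx)).2
      exact ⟨fun _ _ _ => Subsingleton.elim _ _, fun _ => ⟨0, Subsingleton.elim _ _⟩⟩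
    · refine ⟨(injective_iff_map_eq_zero _).2 fun v hv => ?_, fun v => ?_⟩
      · obtain ⟨u, rfl⟩ := surjective_stalkHom (cokernel.π σ) x v
        rw [← stalkHom_comp, hc, stalkHom_comp] at hv
        obtain ⟨w, hw⟩ := hex α x _ hv
        obtain ⟨r, rfl⟩ := (bijective_stalk_section τ (hτ x hx)).2 w
        rw [← hsqx] at hw
        rw [← (hβ x (hτ x hx)).1 hw]
        obtain ⟨W, hxW, a, rfl⟩ := (Coh.structureModule X).presheaf.exists_germ_eq (x := x) r
        rw [stalkHom_germ, stalkHom_germ]
        refine (congrArg (mgerm _ hxW) ?_).trans (map_zero _)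
        exact congrArg (fun φ => (φ.app W) a) (cokernel.condition σ)
      · obtain ⟨w, rfl⟩ := surjective_stalkHom (cokernel.π α) x v
        obtain ⟨u, rfl⟩ := (hβ x (hτ x hx)).2 w
        exact ⟨stalkHom (cokernel.π σ) x u, by rw [← stalkHom_comp, hc, stalkHom_comp]⟩
  have h1 := euler_add (k := k) (S := ShortComplex.mk σ (cokernel.π σ) (cokernel.condition σ))
    { exact := ShortComplex.exact_cokernel σ } RefStalk.isCoh_structureModule hG hCG
  have h2 := euler_add (k := k) (S := ShortComplex.mk α (cokernel.π α) (cokernel.condition α))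
    { exact := ShortComplex.exact_cokernel α } hH hHG hCH
  have h3 := euler_eq_of_iso (k := k) (asIso c)
  dsimp only at h1 h2
  linarith

include k in
theorem deg_tensor_rankOne [IsAlgClosed k] (hdim : topologicalKrullDim X = 1) (hred : ∀ x : X, _root_.IsReduced (X.presheaf.stalk x))
    {L M : X.Modules} (hLc : Coh.IsCoh L) (hMc : Coh.IsCoh M)
    (hLr : ∀ η ∈ Gp X, Module.finrank (X.presheaf.stalk η) (L.presheaf.stalk η) = 1)
    (hMr : ∀ η ∈ Gp X, Module.finrank (X.presheaf.stalk η) (M.presheaf.stalk η) = 1)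
    (hLM : ∀ x : X, (∃ (U : X.Opens) (e : Γ(L, U)), x ∈ U ∧ IsGen e) ∨ (∃ (U : X.Opens) (e : Γ(M, U)), x ∈ U ∧ IsGen e)) :
    Curv2.deg k X (CohB1.tensorMod L M) 1 = Curv2.deg k X L 1 + Curv2.deg k X M 1 := by
  haveI := isNoetherian_of_proper k X
  haveI : IsReduced X := isReduced_of_isReduced_stalk X
  haveI : X.IsSeparated := (Scheme.isSeparated_iff X).mpr (by
    rw [show terminal.from X = (X ↘ Spec (CommRingCat.of k)) ≫ terminal.from _ from terminal.hom_ext _ _]
    infer_instance)
  have gL : ∀ η ∈ Gp X, ∃ (U : X.Opens) (e : Γ(L, U)), η ∈ U ∧ IsGen e := fun η hη => exists_gen_nhd hLc hη (hLr η hη)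
  have gM : ∀ η ∈ Gp X, ∃ (U : X.Opens) (e : Γ(M, U)), η ∈ U ∧ IsGen e := fun η hη => exists_gen_nhd hMc hη (hMr η hη)
  obtain ⟨A, hA⟩ := Groth.Agent.S1551.result X hdim
  haveI : L.IsQuasicoherent := hLc.1
  haveI : M.IsQuasicoherent := hMc.1
  obtain ⟨a, ha⟩ := TMul.eventually_isGloballyGenerated hA hLc.2
  obtain ⟨b, hb⟩ := TMul.eventually_isGloballyGenerated hA hMc.2
  let B := CohB1.tensorPow A a
  let B' := CohB1.tensorPow A b
  have hB : PicF.IsInvertible B := TMul.isInvertible_tensorPow hA.1 a
  have hB' : PicF.IsInvertible B' := TMul.isInvertible_tensorPow hA.1 b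
  let H := CohB1.tensorMod L B
  let G := CohB1.tensorMod M B'
  have hH : Coh.IsCoh H := isCoh_tensor' hLc (isCoh_of_inv hB)
  have hG : Coh.IsCoh G := isCoh_tensor' hMc (isCoh_of_inv hB')
  let Bad : Set X := {x | ¬ ∃ (U : X.Opens) (e : Γ(L, U)), x ∈ U ∧ IsGen e}
  have hBad : IsClosed Bad := by
    refine isOpen_compl_iff.1 (isOpen_iff_forall_mem_open.2 fun x hx => ?_)
    obtain ⟨U, e, hxU, he⟩ := not_not.1 hx
    exact ⟨U, fun y hy h => h ⟨U, e, hy, he⟩, U.2, hxU⟩
  have hBadfin := finite_closed_off_Gp (k := k) hdim.le hBad fun η hη h => h (gL η hη)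
  obtain ⟨σ, hσ⟩ := exists_section_gen (k := k) hG (hb b le_rfl) (Gp.finite.union hBadfin) fun x hx => by
    refine exists_gen_tensor ?_ (TMul.exists_isGen hB' x)
    rcases hx with hx | hx
    · exact gM x hx
    · exact (hLM x).resolve_left hx
  have hCG : Coh.IsCoh (cokernel σ) := Groth.Agent.QC.isCoh_cokernel RefStalk.isCoh_structureModule.1 hG σ
  haveI := hCG.1
  have hoff : ∀ x ∈ Gp X ∪ Bad, x ∉ CohB1.support (cokernel σ) := fun x hx h =>
    h (subsingleton_coker σ (bijective_stalk_section σ (hσ x hx)).2)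
  have hsupfin := finite_closed_off_Gp (k := k) hdim.le (Groth.Agent.QC.isClosed_support hCG.2)
    fun η hη => hoff η (Or.inl hη)
  obtain ⟨τ, hτ⟩ := exists_section_gen (k := k) hH (ha a le_rfl) hsupfin fun x hx => by
    refine exists_gen_tensor ?_ (TMul.exists_isGen hB x)
    by_contra hn
    exact hoff x (Or.inr hn) hx
  have e0 := euler_tensor_sections (k := k) hdim.le hG hH σ (fun η hη => hσ η (Or.inl hη)) τ hτ
  have gLM : ∀ η ∈ Gp X, ∃ (U : X.Opens) (e : Γ(CohB1.tensorMod L M, U)), η ∈ U ∧ IsGen e := fun η hη =>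
    exists_gen_tensor (gL η hη) (gM η hη)
  have hBB : PicF.IsInvertible (CohB1.tensorMod B B') := TMul.isInvertible_tensorMod hB hB'
  have e1 : Curv2.euler k X (CohB1.tensorMod H G) =
      Curv2.euler k X (CohB1.tensorMod (CohB1.tensorMod L M) (CohB1.tensorMod B B')) :=
    euler_eq_of_iso (TMul.swapIso L B M B')
  have e2 := euler_tensor_inv (k := k) hdim.le (isCoh_tensor' hLc hMc) gLM hBB
  have e3 := euler_tensor_inv (k := k) hdim.le (isCoh_of_inv hB) (fun η _ => TMul.exists_isGen hB η) hB'
  have e4 : Curv2.euler k X H = _ := euler_tensor_inv (k := k) hdim.le hLc gL hB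
  have e5 : Curv2.euler k X G = _ := euler_tensor_inv (k := k) hdim.le hMc gM hB'
  simp only [Curv2.deg, Nat.cast_one, one_mul]
  linarith

end Groth.Agent.NodalDeg

end
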